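import Mathlib

/-!
A Zariski sheaf on schemes over a base which is representable over every affine open is representable.
-/

set_option autoImplicit false
set_option backward.isDefEq.respectTransparency false

noncomputable section

universe u

open CategoryTheory CategoryTheory.Limits AlgebraicGeometry Opposite

namespace Groth.Agent.FinHom

variable {S : Scheme.{u}}

/-- The sheaf condition for families of open immersions. -/
structure IsZarSheaf (Φ : (Over S)ᵒᵖ ⥤ Type u) : Prop where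
  ext : ∀ {T : Over S} {I : Type u} {T' : I → Over S} (g : ∀ i, T' i ⟶ T),
    (∀ i, IsOpenImmersion (g i).left) → (∀ x : T.left, ∃ i, x ∈ Set.range (g i).left) →
    ∀ a b : Φ.obj (op T), (∀ i, Φ.map (g i).op a = Φ.map (g i).op b) → a = b
  glue : ∀ {T : Over S} {I : Type u} {T' : I → Over S} (g : ∀ i, T' i ⟶ T),
    (∀ i, IsOpenImmersion (g i).left) → (∀ x : T.left, ∃ i, x ∈ Set.range (g i).left) →
    ∀ a : ∀ i, Φ.obj (op (T' i)),
      (∀ (i j : I) (Z : Over S) (p : Z ⟶ T' i) (q : Z ⟶ T' j), p ≫ g i = q ≫ g j →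
        Φ.map p.op (a i) = Φ.map q.op (a j)) →
      ∃ b, ∀ i, Φ.map (g i).op b = a i

theorem isZarSheaf_yoneda (Y : Over S) : IsZarSheaf (yoneda.obj Y) := by
  constructor
  · intro T I T' g hg hcov a b h
    let 𝒰 : T.left.OpenCover :=
      { I₀ := I
        X := fun i => (T' i).left
        f := fun i => (g i).left
        mem₀ := by
          rw [Scheme.presieve₀_mem_precoverage_iff]
          exact ⟨hcov, hg⟩ }
    exact Over.OverMorphism.ext (𝒰.hom_ext _ _ fun i => congrArg CommaMorphism.left (h i))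
  · intro T I T' g hg hcov a ha
    let 𝒰 : T.left.OpenCover :=
      { I₀ := I
        X := fun i => (T' i).left
        f := fun i => (g i).left
        mem₀ := by
          rw [Scheme.presieve₀_mem_precoverage_iff]
          exact ⟨hcov, hg⟩ }
    have hc : ∀ i j : I, pullback.fst (g i).left (g j).left ≫ (a i : T' i ⟶ Y).left =
        pullback.snd (g i).left (g j).left ≫ (a j : T' j ⟶ Y).left := fun i j =>
      congrArg CommaMorphism.left (ha i j (Over.mk (pullback.fst (g i).left (g j).left ≫ (T' i).hom))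
        (Over.homMk (pullback.fst _ _) rfl) (Over.homMk (pullback.snd _ _) (by
          show pullback.snd _ _ ≫ (T' j).hom = pullback.fst _ _ ≫ (T' i).hom
          rw [← Over.w (g i), ← Over.w (g j), ← Category.assoc, ← pullback.condition, Category.assoc]))
        (Over.OverMorphism.ext pullback.condition))
    refine ⟨Over.homMk (𝒰.glueMorphisms (fun i => (a i : T' i ⟶ Y).left) hc) ?_, fun i => ?_⟩
    · refine 𝒰.hom_ext _ _ fun i => ?_
      rw [← Category.assoc, Scheme.Cover.ι_glueMorphisms]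
      exact (Over.w (a i : T' i ⟶ Y)).trans (Over.w (g i)).symm
    · exact Over.OverMorphism.ext (𝒰.ι_glueMorphisms (fun i => (a i : T' i ⟶ Y).left) hc i)

variable (Φ : (Over S)ᵒᵖ ⥤ Type u)

/-- `ξ` represents `Φ` on the schemes lying over `U`. -/
structure RepOn (U : S.Opens) (M : Over S) (ξ : Φ.obj (op M)) : Prop where
  range : Set.range M.hom ⊆ (U : Set S)
  bij : ∀ T : Over S, Set.range T.hom ⊆ (U : Set S) → Function.Bijective fun a : T ⟶ M => Φ.map a.op ξ

theorem range_comp_subset {T T' : Over S} (g : T' ⟶ T) {U : S.Opens} (h : Set.range T.hom ⊆ (U : Set S)) :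
    Set.range T'.hom ⊆ (U : Set S) := by
  rintro _ ⟨x, rfl⟩
  rw [← Over.w g, Scheme.Hom.comp_apply]
  exact h ⟨_, rfl⟩

/-- The affine test objects suffice. -/
theorem repOn_of_affine (hΦ : IsZarSheaf Φ) (U : S.Opens) (M : Over S) (ξ : Φ.obj (op M))
    (hM : Set.range M.hom ⊆ (U : Set S))
    (h : ∀ T : Over S, IsAffine T.left → Set.range T.hom ⊆ (U : Set S) →
      Function.Bijective fun a : T ⟶ M => Φ.map a.op ξ) : RepOn Φ U M ξ := by
  refine ⟨hM, fun T hT => ?_⟩
  have hpiece : ∀ (T : Over S) (x : T.left), ∃ (T' : Over S) (g : T' ⟶ T),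
      IsOpenImmersion g.left ∧ IsAffine T'.left ∧ x ∈ Set.range g.left := by
    intro T x
    obtain ⟨V, hV, hxV, -⟩ := exists_isAffineOpen_mem_and_subset (X := T.left) (x := x) (U := ⊤) trivial
    exact ⟨Over.mk (V.ι ≫ T.hom), Over.homMk V.ι rfl, inferInstanceAs (IsOpenImmersion V.ι), hV,
      ⟨⟨x, hxV⟩, rfl⟩⟩
  have hinj : ∀ T : Over S, Set.range T.hom ⊆ (U : Set S) →
      Function.Injective fun a : T ⟶ M => Φ.map a.op ξ := by
    intro T hT a b hab
    choose T' g hoi haff hmem using hpiece T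
    refine (isZarSheaf_yoneda M).ext g hoi (fun x => ⟨x, hmem x⟩) a b fun x => ?_
    refine (h (T' x) (haff x) (range_comp_subset (g x) hT)).1 ?_
    show Φ.map (g x ≫ a).op ξ = Φ.map (g x ≫ b).op ξ
    rw [op_comp, op_comp, Functor.map_comp_apply, Functor.map_comp_apply]
    exact congrArg _ hab
  refine ⟨hinj T hT, fun z => ?_⟩
  choose T' g hoi haff hmem using hpiece T
  choose a ha using fun x => (h (T' x) (haff x) (range_comp_subset (g x) hT)).2 (Φ.map (g x).op z)
  have ha' : ∀ x, Φ.map (a x).op ξ = Φ.map (g x).op z := ha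
  obtain ⟨b, hb⟩ := (isZarSheaf_yoneda M).glue g hoi (fun x => ⟨x, hmem x⟩) a fun i j Z p q hpq => by
    refine hinj Z (range_comp_subset (p ≫ g i) hT) ?_
    show Φ.map (p ≫ a i).op ξ = Φ.map (q ≫ a j).op ξ
    rw [op_comp, op_comp, Functor.map_comp_apply, Functor.map_comp_apply, ha', ha', ← Functor.map_comp_apply,
      ← Functor.map_comp_apply, ← op_comp, ← op_comp, hpq]
  refine ⟨b, hΦ.ext g hoi (fun x => ⟨x, hmem x⟩) _ _ fun x => ?_⟩
  rw [← ha' x, ← Functor.map_comp_apply, ← op_comp]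
  exact congrArg (fun e : T' x ⟶ M => Φ.map e.op ξ) (hb x)

/-- Zariski gluing of representing objects. -/
theorem exists_rep (hΦ : IsZarSheaf Φ) (Mo : S.AffineZariskiSite → Over S) (ξ : ∀ U, Φ.obj (op (Mo U)))
    (h : ∀ U, (Mo U).left ⟶ (U.1 : Scheme.{u})) (hh : ∀ U, h U ≫ U.1.ι = (Mo U).hom)
    (hrep : ∀ U, RepOn Φ U.1 (Mo U) (ξ U)) :
    ∃ M : Over S, Nonempty (Φ.RepresentableBy M) ∧
      ∀ (P : MorphismProperty Scheme.{u}) [IsZariskiLocalAtTarget P], (∀ U, P (h U)) → P M.hom := by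
  let le' : ∀ {U V : S.AffineZariskiSite}, U ≤ V → U.1 ≤ V.1 := fun hUV =>
    Scheme.AffineZariskiSite.toOpens_mono hUV
  have hex : ∀ {U V : S.AffineZariskiSite} (hUV : U ≤ V), ∃ v : Mo U ⟶ Mo V, Φ.map v.op (ξ V) = ξ U := fun hUV =>
    ((hrep _).bij _ (fun x hx => le' hUV ((hrep _).range hx))).2 _
  choose v hv using @hex
  have hinjU : ∀ {T : Over S} {U : S.AffineZariskiSite} (a b : T ⟶ Mo U),
      Φ.map a.op (ξ U) = Φ.map b.op (ξ U) → a = b := fun {T U} a b hab =>
    ((hrep U).bij T (range_comp_subset a (hrep U).range)).1 hab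
  let F : S.AffineZariskiSite ⥤ Scheme.{u} :=
    { obj := fun U => (Mo U).left
      map := fun {U V} f => (v f.le).left
      map_id := fun U => by
        have : v (le_refl U) = 𝟙 (Mo U) := hinjU _ _ (by rw [hv, op_id, Functor.map_id_apply])
        exact congrArg CommaMorphism.left this
      map_comp := fun {U V W} f g => by
        have : v (f ≫ g).le = v f.le ≫ v g.le :=
          hinjU _ _ (by rw [hv, op_comp, Functor.map_comp_apply, hv, hv])
        exact congrArg CommaMorphism.left this }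
  let α : F ⟶ (Scheme.AffineZariskiSite.directedCover S).functorOfLocallyDirected :=
    { app := fun U => h U
      naturality := fun U V f => by
        show (v f.le).left ≫ h V = h U ≫ S.homOfLE (le' f.le)
        rw [← cancel_mono V.1.ι, Category.assoc, hh, Over.w, Category.assoc, Scheme.homOfLE_ι, hh] }
  have heq : α.Equifibered := by
    intro U V f
    have hw : (v f.le).left ≫ h V = h U ≫ S.homOfLE (le' f.le) := α.naturality f
    have hlift : ∀ s : PullbackCone (h V) (S.homOfLE (le' f.le)),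
        ∃ m : s.pt ⟶ (Mo U).left, m ≫ (v f.le).left = s.fst ∧ m ≫ h U = s.snd ∧
          ∀ m' : s.pt ⟶ (Mo U).left, m' ≫ (v f.le).left = s.fst → m' ≫ h U = s.snd → m' = m := by
      intro s
      let T : Over S := Over.mk (s.snd ≫ U.1.ι)
      let a : T ⟶ Mo V := Over.homMk s.fst (by
        show s.fst ≫ (Mo V).hom = s.snd ≫ U.1.ι
        rw [← hh, ← Category.assoc, s.condition, Category.assoc, Scheme.homOfLE_ι])
      have hT : Set.range T.hom ⊆ (U.1 : Set S) := by
        rintro _ ⟨x, rfl⟩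
        exact (s.snd x).2
      obtain ⟨b, hb⟩ := ((hrep U).bij T hT).2 (Φ.map a.op (ξ V))
      have hbv : b ≫ v f.le = a := by
        refine hinjU _ _ ?_
        rw [op_comp, Functor.map_comp_apply, hv]
        exact hb
      refine ⟨b.left, congrArg CommaMorphism.left hbv, ?_, fun m h1 h2 => ?_⟩
      · refine (cancel_mono U.1.ι).1 ?_
        rw [Category.assoc, hh]
        exact Over.w b
      · let m' : T ⟶ Mo U := Over.homMk m (by
          show m ≫ (Mo U).hom = s.snd ≫ U.1.ι
          rw [← hh, ← Category.assoc, h2])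
        have hm : m' ≫ v f.le = a := Over.OverMorphism.ext h1
        refine congrArg CommaMorphism.left (hinjU m' b ?_)
        refine Eq.trans ?_ hb.symm
        rw [← hv f.le, ← Functor.map_comp_apply, ← op_comp, hm]
    choose l hl₁ hl₂ hl₃ using hlift
    exact ⟨⟨hw⟩, ⟨PullbackCone.IsLimit.mk _ l hl₁ hl₂ fun s m h1 h2 => hl₃ s m h1 h2⟩⟩
  let D : (Scheme.AffineZariskiSite.directedCover S).RelativeGluingData := ⟨F, α, heq⟩
  haveI : (D.functor ⋙ Scheme.forget).IsLocallyDirected :=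
    Scheme.Cover.RelativeGluingData.instIsLocallyDirectedI₀CompFunctorForgetOfIsThin ..
  haveI : ∀ {U V : S.AffineZariskiSite} (f : U ⟶ V), IsOpenImmersion (D.functor.map f) := fun f =>
    Scheme.Cover.RelativeGluingData.instIsOpenImmersionMapI₀Functor D f
  haveI : HasColimit D.functor := inferInstance
  let M : Over S := Over.mk D.toBase
  let c : ∀ U, Mo U ⟶ M := fun U => Over.homMk (colimit.ι D.functor U) (by
    show colimit.ι D.functor U ≫ D.toBase = (Mo U).hom
    exact (D.ι_toBase U).trans (hh U))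
  have hoi : ∀ U, IsOpenImmersion (c U).left := fun U => inferInstanceAs (IsOpenImmersion (D.cover.f U))
  haveI : ∀ U, Mono (c U) := fun U => by
    haveI := hoi U
    exact Over.mono_of_mono_left _
  have hcw : ∀ {U V : S.AffineZariskiSite} (hUV : U ≤ V), v hUV ≫ c V = c U := fun hUV =>
    Over.OverMorphism.ext (colimit.w D.functor (homOfLE hUV))
  have hsq : ∀ U : S.AffineZariskiSite, IsPullback (h U) (c U).left U.1.ι D.toBase := fun U =>
    D.isPullback_natTrans_ι_toBase U
  obtain ⟨Ξ, hΞ⟩ := hΦ.glue c hoi (fun x => by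
    obtain ⟨U, y, hy⟩ : ∃ U y, colimit.ι D.functor U y = x := ⟨_, D.cover.covers x⟩
    exact ⟨U, y, hy⟩) ξ fun U V Z p q hpq => by
      have hpt : ∀ z : Z.left, ∃ W : S.AffineZariskiSite, W ≤ U ∧ W ≤ V ∧ Z.hom z ∈ W.1 := by
        intro z
        have hzU : Z.hom z ∈ U.1 := range_comp_subset p (hrep U).range ⟨z, rfl⟩
        have hzV : Z.hom z ∈ V.1 := range_comp_subset q (hrep V).range ⟨z, rfl⟩
        obtain ⟨f, g, e, hzf⟩ := exists_basicOpen_le_affine_inter U.2 V.2 _ ⟨hzU, hzV⟩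
        exact ⟨U.basicOpen f, U.basicOpen_le f,
          (show U.basicOpen f = V.basicOpen g from Subtype.ext (by exact e)) ▸ V.basicOpen_le g, hzf⟩
      choose W hWU hWV hzW using hpt
      let Z' : Z.left → Over S := fun z => Over.mk ((Z.hom ⁻¹ᵁ (W z).1).ι ≫ Z.hom)
      let g : ∀ z, Z' z ⟶ Z := fun z => Over.homMk (Z.hom ⁻¹ᵁ (W z).1).ι rfl
      refine hΦ.ext g (fun z => inferInstanceAs (IsOpenImmersion (Z.hom ⁻¹ᵁ (W z).1).ι))
        (fun z => ⟨z, ⟨z, hzW z⟩, rfl⟩) _ _ fun z => ?_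
      have hT : Set.range (Z' z).hom ⊆ ((W z).1 : Set S) := by
        rintro _ ⟨x, rfl⟩
        exact x.2
      obtain ⟨r, hr⟩ := ((hrep (W z)).bij _ hT).2 (Φ.map (g z ≫ p).op (ξ U))
      obtain ⟨r', hr'⟩ := ((hrep (W z)).bij _ hT).2 (Φ.map (g z ≫ q).op (ξ V))
      have hr0 : Φ.map r.op (ξ (W z)) = Φ.map (g z ≫ p).op (ξ U) := hr
      have hr0' : Φ.map r'.op (ξ (W z)) = Φ.map (g z ≫ q).op (ξ V) := hr'
      have h1 : r ≫ v (hWU z) = g z ≫ p := hinjU _ _ (by rw [op_comp, Functor.map_comp_apply, hv, hr0])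
      have h2 : r' ≫ v (hWV z) = g z ≫ q := hinjU _ _ (by rw [op_comp, Functor.map_comp_apply, hv, hr0'])
      have h3 : r = r' := by
        rw [← cancel_mono (c (W z)), ← hcw (hWU z), ← Category.assoc, h1, Category.assoc, hpq, ← Category.assoc,
          ← h2, Category.assoc, hcw, hcw]
      rw [← Functor.map_comp_apply, ← Functor.map_comp_apply, ← op_comp, ← op_comp, ← hr0, ← hr0', h3]
  have hpre : ∀ {T : Over S} (a : T ⟶ M) (U : S.AffineZariskiSite), Set.range T.hom ⊆ (U.1 : Set S) →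
      ∃ a' : T ⟶ Mo U, a' ≫ c U = a := by
    intro T a U hT
    let t : T.left ⟶ U.1 := IsOpenImmersion.lift U.1.ι T.hom (by rwa [Scheme.Opens.range_ι])
    have ht : t ≫ U.1.ι = a.left ≫ D.toBase := (IsOpenImmersion.lift_fac _ _ _).trans (Over.w a).symm
    refine ⟨Over.homMk ((hsq U).lift t a.left ht) ?_, Over.OverMorphism.ext ((hsq U).lift_snd _ _ _)⟩
    rw [← hh U, ← Category.assoc, (hsq U).lift_fst]
    exact IsOpenImmersion.lift_fac _ _ _
  have hinjloc : ∀ {T : Over S} (U : S.AffineZariskiSite), Set.range T.hom ⊆ (U.1 : Set S) →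
      ∀ a b : T ⟶ M, Φ.map a.op Ξ = Φ.map b.op Ξ → a = b := by
    intro T U hT a b hab
    obtain ⟨a', rfl⟩ := hpre a U hT
    obtain ⟨b', rfl⟩ := hpre b U hT
    rw [op_comp, op_comp, Functor.map_comp_apply, Functor.map_comp_apply, hΞ] at hab
    rw [hinjU _ _ hab]
  have hcov : ∀ T : Over S, ∃ (I : Type u) (T' : I → Over S) (g : ∀ i, T' i ⟶ T) (U : I → S.AffineZariskiSite),
      (∀ i, IsOpenImmersion (g i).left) ∧ (∀ x : T.left, ∃ i, x ∈ Set.range (g i).left) ∧
      ∀ i, Set.range (T' i).hom ⊆ ((U i).1 : Set S) := by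
    intro T
    refine ⟨S.AffineZariskiSite, fun U => Over.mk ((T.hom ⁻¹ᵁ U.1).ι ≫ T.hom),
      fun U => Over.homMk (T.hom ⁻¹ᵁ U.1).ι rfl, id,
      fun U => inferInstanceAs (IsOpenImmersion (T.hom ⁻¹ᵁ U.1).ι), fun x => ?_, fun U => ?_⟩
    · obtain ⟨U, hU, hxU, -⟩ := exists_isAffineOpen_mem_and_subset (X := S) (x := T.hom x) (U := ⊤) trivial
      exact ⟨⟨U, hU⟩, ⟨x, hxU⟩, rfl⟩
    · rintro _ ⟨x, rfl⟩
      exact x.2
  have hinj : ∀ T : Over S, Function.Injective fun a : T ⟶ M => Φ.map a.op Ξ := by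
    intro T a b hab
    obtain ⟨I, T', g, U, hg, hgc, hU⟩ := hcov T
    refine (isZarSheaf_yoneda M).ext g hg hgc a b fun i => hinjloc (U i) (hU i) _ _ ?_
    show Φ.map (g i ≫ a).op Ξ = Φ.map (g i ≫ b).op Ξ
    rw [op_comp, op_comp, Functor.map_comp_apply, Functor.map_comp_apply]
    exact congrArg _ hab
  have hsurj : ∀ T : Over S, Function.Surjective fun a : T ⟶ M => Φ.map a.op Ξ := by
    intro T z
    obtain ⟨I, T', g, U, hg, hgc, hU⟩ := hcov T
    choose a ha using fun i => ((hrep (U i)).bij (T' i) (hU i)).2 (Φ.map (g i).op z)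
    have ha' : ∀ i, Φ.map (a i).op (ξ (U i)) = Φ.map (g i).op z := ha
    obtain ⟨b, hb⟩ := (isZarSheaf_yoneda M).glue g hg hgc (fun i => a i ≫ c (U i)) fun i j Z p q hpq => by
      refine hinj Z ?_
      show Φ.map (p ≫ a i ≫ c (U i)).op Ξ = Φ.map (q ≫ a j ≫ c (U j)).op Ξ
      simp only [op_comp, Functor.map_comp_apply, hΞ, ha']
      rw [← Functor.map_comp_apply, ← Functor.map_comp_apply, ← op_comp, ← op_comp, hpq]
    refine ⟨b, hΦ.ext g hg hgc _ _ fun i => ?_⟩
    rw [← ha' i, ← Functor.map_comp_apply, ← op_comp]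
    refine (congrArg (fun e : T' i ⟶ M => Φ.map e.op Ξ) (hb i)).trans ?_
    rw [op_comp, Functor.map_comp_apply, hΞ]
  refine ⟨M, ⟨{ homEquiv := fun {T} => Equiv.ofBijective _ ⟨hinj T, hsurj T⟩
                homEquiv_comp := fun f g => by
                  show Φ.map (f ≫ g).op Ξ = Φ.map f.op (Φ.map g.op Ξ)
                  rw [op_comp, Functor.map_comp_apply] }⟩, fun P _ hP => ?_⟩
  refine (IsZariskiLocalAtTarget.iff_of_openCover (P := P) (Scheme.AffineZariskiSite.directedCover S)).2 fun U => ?_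
  exact (P.cancel_left_of_respectsIso (hsq U).flip.isoPullback.hom _).1
    ((hsq U).flip.isoPullback_hom_snd.symm ▸ hP U)

end Groth.Agent.FinHom
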