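import Groth.Agent.FinHomLib.Ring
import Groth.Agent.FinHomLib.Glue

/-!
Morphisms from a finite locally free scheme to an affine scheme, over an affine open of the base.
-/

set_option autoImplicit false
set_option backward.isDefEq.respectTransparency false

noncomputable section

universe u

open CategoryTheory CategoryTheory.Limits MonoidalCategory CartesianMonoidalCategory AlgebraicGeometry Opposite
open scoped TensorProduct

namespace Groth.Agent.FinHom

variable {S : Scheme.{u}}

/-- The functor of morphisms out of `X`. -/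
abbrev homFun (X Y : Over S) : (Over S)ᵒᵖ ⥤ Type u := (tensorLeft X).op ⋙ yoneda.obj Y

theorem isPullback_whiskerLeft (X : Over S) {T T' : Over S} (g : T' ⟶ T) :
    IsPullback (X ◁ g).left (pullback.snd X.hom T'.hom) (pullback.snd X.hom T.hom) g.left := by
  refine IsPullback.of_right ?_ ?_ (IsPullback.of_hasPullback X.hom T.hom)
  · rw [Over.w g, Over.whiskerLeft_left_fst]
    exact IsPullback.of_hasPullback X.hom T'.hom
  · exact Over.whiskerLeft_left_snd g

theorem isOpenImmersion_whiskerLeft (X : Over S) {T T' : Over S} (g : T' ⟶ T) [IsOpenImmersion g.left] :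
    IsOpenImmersion (X ◁ g).left :=
  MorphismProperty.of_isPullback (P := @IsOpenImmersion) (isPullback_whiskerLeft X g).flip inferInstance

theorem isZarSheaf_homFun (X Y : Over S) : IsZarSheaf (homFun X Y) := by
  have hcov : ∀ {T : Over S} {I : Type u} {T' : I → Over S} (g : ∀ i, T' i ⟶ T),
      (∀ x : T.left, ∃ i, x ∈ Set.range (g i).left) →
        ∀ x : (X ⊗ T).left, ∃ i, x ∈ Set.range (X ◁ g i).left := by
    intro T I T' g hg x
    obtain ⟨i, y, hy⟩ := hg (pullback.snd X.hom T.hom x)
    obtain ⟨z, hz, -⟩ := Scheme.exists_preimage_of_isPullback (isPullback_whiskerLeft X (g i)) x y hy.symm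
    exact ⟨i, z, hz⟩
  refine ⟨fun g hg hc a b h => ?_, fun {T I T'} g hg hc a ha => ?_⟩
  · exact (isZarSheaf_yoneda Y).ext (fun i => X ◁ g i)
      (fun i => by haveI := hg i; exact isOpenImmersion_whiskerLeft X (g i)) (hcov g hc) a b h
  · refine (isZarSheaf_yoneda Y).glue (fun i => X ◁ g i)
      (fun i => by haveI := hg i; exact isOpenImmersion_whiskerLeft X (g i)) (hcov g hc) a fun i j W p q hpq => ?_
    let Z : Over S := Over.mk (pullback.fst (g i).left (g j).left ≫ (T' i).hom)
    let p₁ : Z ⟶ T' i := Over.homMk (pullback.fst _ _) rfl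
    let q₁ : Z ⟶ T' j := Over.homMk (pullback.snd _ _) (by
      show pullback.snd _ _ ≫ (T' j).hom = pullback.fst _ _ ≫ (T' i).hom
      rw [← Over.w (g i), ← Over.w (g j), ← Category.assoc, ← pullback.condition, Category.assoc])
    have h1 : (p ≫ snd X (T' i)) ≫ g i = (q ≫ snd X (T' j)) ≫ g j := by
      have := congrArg (· ≫ snd X T) hpq
      simpa [Category.assoc] using this
    have hf : p ≫ fst X (T' i) = q ≫ fst X (T' j) := by
      have := congrArg (· ≫ fst X T) hpq
      simpa [Category.assoc] using this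
    let z : W ⟶ Z := Over.homMk (pullback.lift (p ≫ snd X (T' i)).left (q ≫ snd X (T' j)).left
      (congrArg CommaMorphism.left h1)) (by
        show pullback.lift _ _ _ ≫ pullback.fst _ _ ≫ (T' i).hom = W.hom
        rw [pullback.lift_fst_assoc, Over.w])
    have hp : lift (p ≫ fst X (T' i)) z ≫ (X ◁ p₁) = p := by
      refine CartesianMonoidalCategory.hom_ext _ _ (by simp) ?_
      simp only [Category.assoc, whiskerLeft_snd, lift_snd_assoc]
      exact Over.OverMorphism.ext (pullback.lift_fst _ _ _)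
    have hq : lift (p ≫ fst X (T' i)) z ≫ (X ◁ q₁) = q := by
      refine CartesianMonoidalCategory.hom_ext _ _ (by simp [hf]) ?_
      simp only [Category.assoc, whiskerLeft_snd, lift_snd_assoc]
      exact Over.OverMorphism.ext (pullback.lift_snd _ _ _)
    have h2 := ha i j Z p₁ q₁ (Over.OverMorphism.ext pullback.condition)
    show p ≫ a i = q ≫ a j
    conv_lhs => rw [← hp]
    conv_rhs => rw [← hq]
    rw [Category.assoc, Category.assoc]
    exact congrArg (_ ≫ ·) h2

variable {R : Type u} [CommRing R] (j : Spec (CommRingCat.of R) ⟶ S)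

/-- An affine chart of an affine scheme over an affine open. -/
theorem exists_chart (X : Over S) [IsAffineHom X.hom] :
    ∃ (B : Type u) (_ : CommRing B) (_ : Algebra R B) (a : Spec (CommRingCat.of B) ⟶ X.left),
      IsPullback a (Spec.map (CommRingCat.ofHom (algebraMap R B))) X.hom j := by
  haveI : IsAffine (pullback X.hom j) := isAffine_of_isAffineHom (pullback.snd X.hom j)
  let Q := pullback X.hom j
  obtain ⟨ρ, hρ⟩ := Spec.map_surjective (Q.isoSpec.inv ≫ pullback.snd X.hom j)
  letI : Algebra R Γ(Q, ⊤) := ρ.hom.toAlgebra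
  refine ⟨Γ(Q, ⊤), inferInstance, inferInstance, Q.isoSpec.inv ≫ pullback.fst X.hom j, ?_⟩
  exact (IsPullback.of_hasPullback X.hom j).of_iso Q.isoSpec (Iso.refl _) (Iso.refl _) (Iso.refl _)
    (by simp [Q]) (by
      rw [Iso.refl_hom, Category.comp_id, RingHom.algebraMap_toAlgebra, CommRingCat.ofHom_hom]
      exact (by rw [hρ, Iso.hom_inv_id_assoc] : Q.isoSpec.hom ≫ Spec.map ρ = pullback.snd X.hom j).symm)
    (by simp) (by simp)

variable {B C : Type u} [CommRing B] [Algebra R B] [CommRing C] [Algebra R C]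

/-- The test object given by an algebra. -/
def tst (D : Type u) [CommRing D] [Algebra R D] : Over S :=
  Over.mk (Spec.map (CommRingCat.ofHom (algebraMap R D)) ≫ j)

theorem specMap_algHom {D D' : Type u} [CommRing D] [Algebra R D] [CommRing D'] [Algebra R D'] (L : D →ₐ[R] D') :
    Spec.map (CommRingCat.ofHom L.toRingHom) ≫ Spec.map (CommRingCat.ofHom (algebraMap R D)) =
      Spec.map (CommRingCat.ofHom (algebraMap R D')) := by
  rw [← Spec.map_comp, ← CommRingCat.ofHom_comp]
  exact congrArg (fun g => Spec.map (CommRingCat.ofHom g)) (RingHom.ext L.commutes)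

/-- The map of test objects. -/
def tmap {D D' : Type u} [CommRing D] [Algebra R D] [CommRing D'] [Algebra R D'] (L : D →ₐ[R] D') :
    tst j D' ⟶ tst j D :=
  Over.homMk (Spec.map (CommRingCat.ofHom L.toRingHom)) (by
    show _ ≫ Spec.map _ ≫ j = Spec.map _ ≫ j
    rw [← Category.assoc, specMap_algHom])

theorem tmap_surjective [Mono j] {D D' : Type u} [CommRing D] [Algebra R D] [CommRing D'] [Algebra R D']
    (a : tst j D' ⟶ tst j D) : ∃ L : D →ₐ[R] D', tmap j L = a := by
  obtain ⟨ψ, hψ⟩ := Spec.map_surjective a.left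
  have hw : Spec.map ψ ≫ Spec.map (CommRingCat.ofHom (algebraMap R D)) =
      Spec.map (CommRingCat.ofHom (algebraMap R D')) := by
    rw [← cancel_mono j, hψ, Category.assoc]
    exact Over.w a
  rw [← Spec.map_comp] at hw
  exact ⟨{ ψ.hom with commutes' := fun r => DFunLike.congr_fun (CommRingCat.hom_ext_iff.1 (Spec.map_injective hw)) r },
    Over.OverMorphism.ext hψ⟩

theorem tmap_injective {D D' : Type u} [CommRing D] [Algebra R D] [CommRing D'] [Algebra R D'] :
    Function.Injective (tmap j (D := D) (D' := D')) := fun L L' h =>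
  AlgHom.coe_ringHom_injective (CommRingCat.hom_ext_iff.1 (Spec.map_injective (congrArg CommaMorphism.left h)))

/-- The point of `Y` given by an algebra map. -/
def apt {Y : Over S} {c : Spec (CommRingCat.of C) ⟶ Y.left}
    (hY : IsPullback c (Spec.map (CommRingCat.ofHom (algebraMap R C))) Y.hom j) {D : Type u} [CommRing D]
    [Algebra R D] (φ : C →ₐ[R] D) : tst j D ⟶ Y :=
  Over.homMk (Spec.map (CommRingCat.ofHom φ.toRingHom) ≫ c) (by
    show (_ ≫ c) ≫ Y.hom = Spec.map _ ≫ j
    rw [Category.assoc, hY.w, ← Category.assoc, specMap_algHom])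

theorem apt_comp {Y : Over S} {c : Spec (CommRingCat.of C) ⟶ Y.left}
    (hY : IsPullback c (Spec.map (CommRingCat.ofHom (algebraMap R C))) Y.hom j) {D D' : Type u} [CommRing D]
    [Algebra R D] [CommRing D'] [Algebra R D'] (φ : C →ₐ[R] D) (L : D →ₐ[R] D') :
    tmap j L ≫ apt j hY φ = apt j hY (L.comp φ) :=
  Over.OverMorphism.ext (by
    show Spec.map _ ≫ Spec.map _ ≫ c = Spec.map _ ≫ c
    rw [← Category.assoc, ← Spec.map_comp]
    rfl)

theorem apt_bijective {Y : Over S} {c : Spec (CommRingCat.of C) ⟶ Y.left}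
    (hY : IsPullback c (Spec.map (CommRingCat.ofHom (algebraMap R C))) Y.hom j) (D : Type u) [CommRing D]
    [Algebra R D] : Function.Bijective (apt j hY (D := D)) := by
  refine ⟨fun φ φ' h => ?_, fun g => ?_⟩
  · refine AlgHom.coe_ringHom_injective (CommRingCat.hom_ext_iff.1 (Spec.map_injective (hY.hom_ext
      (congrArg CommaMorphism.left h) ?_)))
    exact (specMap_algHom φ).trans (specMap_algHom φ').symm
  · obtain ⟨ψ, hψ⟩ := Spec.map_surjective (hY.lift g.left (Spec.map (CommRingCat.ofHom (algebraMap R D))) (Over.w g))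
    have hw : Spec.map ψ ≫ Spec.map (CommRingCat.ofHom (algebraMap R C)) =
        Spec.map (CommRingCat.ofHom (algebraMap R D)) := by rw [hψ, hY.lift_snd]
    rw [← Spec.map_comp] at hw
    refine ⟨{ ψ.hom with commutes' := fun r => DFunLike.congr_fun (CommRingCat.hom_ext_iff.1 (Spec.map_injective hw)) r },
      Over.OverMorphism.ext ?_⟩
    show Spec.map ψ ≫ c = g.left
    rw [hψ, hY.lift_fst]

variable {X : Over S} {a : Spec (CommRingCat.of B) ⟶ X.left}
  (hX : IsPullback a (Spec.map (CommRingCat.ofHom (algebraMap R B))) X.hom j)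

/-- The product of `X` with a test object. -/
def prd (A : Type u) [CommRing A] [Algebra R A] : tst j (A ⊗[R] B) ⟶ X ⊗ tst j A :=
  lift (apt j hX Algebra.TensorProduct.includeRight) (tmap j Algebra.TensorProduct.includeLeft)

theorem prd_natural {A A' : Type u} [CommRing A] [Algebra R A] [CommRing A'] [Algebra R A'] (L : A →ₐ[R] A') :
    tmap j (Algebra.TensorProduct.map L (AlgHom.id R B)) ≫ prd j hX A = prd j hX A' ≫ (X ◁ tmap j L) := by
  refine CartesianMonoidalCategory.hom_ext _ _ ?_ ?_
  · simp only [prd, Category.assoc, lift_fst, whiskerLeft_fst, apt_comp]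
    exact congrArg (apt j hX) (AlgHom.ext fun b => by simp)
  · simp only [prd, Category.assoc, lift_snd, whiskerLeft_snd, lift_snd_assoc]
    refine Over.OverMorphism.ext ?_
    show Spec.map _ ≫ Spec.map _ = Spec.map _ ≫ Spec.map _
    rw [← Spec.map_comp, ← Spec.map_comp]
    exact congrArg Spec.map (CommRingCat.hom_ext (RingHom.ext fun x => by simp))

theorem isIso_lift_of_isPullback {P A B : Over S} (α : P ⟶ A) (β : P ⟶ B)
    (h : IsPullback α.left β.left A.hom B.hom) : IsIso (lift α β) := by
  have h1 : (lift α β).left = h.isoPullback.hom := pullback.hom_ext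
    ((congrArg CommaMorphism.left (lift_fst α β)).trans h.isoPullback_hom_fst.symm)
    ((congrArg CommaMorphism.left (lift_snd α β)).trans h.isoPullback_hom_snd.symm)
  haveI : IsIso ((Over.forget S).map (lift α β)) := by
    show IsIso (lift α β).left
    rw [h1]
    infer_instance
  exact isIso_of_reflects_iso _ (Over.forget S)

set_option maxHeartbeats 200000 in
theorem isIso_prd (A : Type u) [CommRing A] [Algebra R A] : IsIso (prd j hX A) := by
  refine isIso_lift_of_isPullback _ _ ?_
  have h1 : IsPullback (Spec.map (CommRingCat.ofHom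
      (Algebra.TensorProduct.includeRight : B →ₐ[R] A ⊗[R] B).toRingHom) ≫ a)
      (Spec.map (CommRingCat.ofHom (Algebra.TensorProduct.includeLeftRingHom : A →+* A ⊗[R] B))) X.hom
      (Spec.map (CommRingCat.ofHom (algebraMap R A)) ≫ j) :=
    (isPullback_SpecMap_of_isPushout _ _ _ _ (CommRingCat.isPushout_tensorProduct R A B)).flip.paste_horiz hX
  exact h1

include hX in
set_option maxHeartbeats 400000 in
/-- The representing object over an affine open. -/
theorem exists_affine_rep [IsOpenImmersion j] [Module.Finite R B] [Module.Projective R B] {Y : Over S}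
    {c : Spec (CommRingCat.of C) ⟶ Y.left}
    (hY : IsPullback c (Spec.map (CommRingCat.ofHom (algebraMap R C))) Y.hom j) :
    ∃ (W : Type u) (_ : CommRing W) (_ : Algebra R W) (ξ : X ⊗ tst j W ⟶ Y),
      (Algebra.FiniteType R C → Algebra.FiniteType R W) ∧
      (Algebra.FinitePresentation R C → Algebra.FinitePresentation R W) ∧
      RepOn (homFun X Y) j.opensRange (tst j W) ξ := by
  obtain ⟨W, _, _, ω, h₁, h₂, h₃⟩ := exists_algHom_repr (R := R) (B := B) C
  haveI := isIso_prd j hX W
  refine ⟨W, inferInstance, inferInstance, inv (prd j hX W) ≫ apt j hY ω, h₁, h₂,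
    repOn_of_affine _ (isZarSheaf_homFun X Y) _ _ _ ?_ fun T hT hTU => ?_⟩
  · rintro _ ⟨x, rfl⟩
    exact ⟨_, (Scheme.Hom.comp_apply _ _ _).symm⟩
  haveI := hT
  obtain ⟨ρ, hρ⟩ := Spec.map_surjective (T.left.isoSpec.inv ≫ IsOpenImmersion.lift j T.hom hTU)
  letI : Algebra R Γ(T.left, ⊤) := ρ.hom.toAlgebra
  let e : tst j Γ(T.left, ⊤) ≅ T := Over.isoMk T.left.isoSpec.symm (by
    show T.left.isoSpec.inv ≫ T.hom = Spec.map (CommRingCat.ofHom (algebraMap R Γ(T.left, ⊤))) ≫ j
    rw [RingHom.algebraMap_toAlgebra, CommRingCat.ofHom_hom, hρ, Category.assoc, IsOpenImmersion.lift_fac])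
  haveI := isIso_prd j hX Γ(T.left, ⊤)
  have hcomp : ∀ L : W →ₐ[R] Γ(T.left, ⊤),
      prd j hX Γ(T.left, ⊤) ≫ (X ◁ tmap j L) ≫ inv (prd j hX W) ≫ apt j hY ω =
        apt j hY ((Algebra.TensorProduct.map L (AlgHom.id R B)).comp ω) := by
    intro L
    rw [← Category.assoc, ← prd_natural, Category.assoc, IsIso.hom_inv_id_assoc, apt_comp]
  refine ⟨fun v v' hvv => ?_, fun z => ?_⟩
  · obtain ⟨L, hL⟩ := tmap_surjective j (e.hom ≫ v)
    obtain ⟨L', hL'⟩ := tmap_surjective j (e.hom ≫ v')
    have hz : (X ◁ v) ≫ inv (prd j hX W) ≫ apt j hY ω = (X ◁ v') ≫ inv (prd j hX W) ≫ apt j hY ω := hvv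
    have : L = L' := by
      refine (h₃ _ ((Algebra.TensorProduct.map L (AlgHom.id R B)).comp ω)).unique rfl
        ((apt_bijective j hY _).1 ?_)
      rw [← hcomp, ← hcomp, hL, hL', whiskerLeft_comp, whiskerLeft_comp, Category.assoc, Category.assoc, hz]
    rw [← cancel_epi e.hom, ← hL, ← hL', this]
  · obtain ⟨χ, hχ⟩ := (apt_bijective j hY _).2 (prd j hX Γ(T.left, ⊤) ≫ (X ◁ e.hom) ≫ z)
    obtain ⟨L, hL, -⟩ := h₃ _ χ
    refine ⟨e.inv ≫ tmap j L, ?_⟩
    show (X ◁ (e.inv ≫ tmap j L)) ≫ inv (prd j hX W) ≫ apt j hY ω = z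
    rw [whiskerLeft_comp, Category.assoc, ← cancel_epi (X ◁ e.hom), whiskerLeft_hom_inv_assoc,
      ← cancel_epi (prd j hX Γ(T.left, ⊤)), hcomp, hL, hχ]

end Groth.Agent.FinHom
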