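import Groth.Agent.FinHomLib.Affine

/-!
The scheme of morphisms from a finite locally free scheme to a scheme affine over the base.
-/

set_option autoImplicit false
set_option backward.isDefEq.respectTransparency false

noncomputable section

universe u

open CategoryTheory CategoryTheory.Limits MonoidalCategory CartesianMonoidalCategory AlgebraicGeometry Opposite

namespace Groth.Agent.FinHom

variable {S : Scheme.{u}}

theorem module_props {R B : Type u} [CommRing R] [CommRing B] [Algebra R B] {X : Over S}
    [IsFinite X.hom] [Flat X.hom] [LocallyOfFinitePresentation X.hom] {j : Spec (CommRingCat.of R) ⟶ S}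
    {a : Spec (CommRingCat.of B) ⟶ X.left}
    (hX : IsPullback a (Spec.map (CommRingCat.ofHom (algebraMap R B))) X.hom j) :
    Module.Finite R B ∧ Module.Projective R B := by
  have h1 : (algebraMap R B).Finite :=
    (IsFinite.SpecMap_iff _).1 (MorphismProperty.of_isPullback (P := @IsFinite) hX inferInstance)
  have h2 : (algebraMap R B).Flat :=
    (Flat.SpecMap_iff).1 (MorphismProperty.of_isPullback (P := @Flat) hX inferInstance)
  have h3 : (algebraMap R B).FinitePresentation :=
    (HasRingHomProperty.Spec_iff (P := @LocallyOfFinitePresentation)).1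
      (MorphismProperty.of_isPullback (P := @LocallyOfFinitePresentation) hX inferInstance)
  haveI : Module.Finite R B := RingHom.finite_algebraMap.1 h1
  haveI : Module.Flat R B := RingHom.flat_algebraMap_iff.1 h2
  haveI : Algebra.FinitePresentation R B := RingHom.finitePresentation_algebraMap.1 h3
  haveI := Module.FinitePresentation.of_finite_of_finitePresentation (R := R) (S := B)
  exact ⟨inferInstance, Module.Flat.projective_of_finitePresentation⟩

/-- Morphisms out of a finite locally free scheme into an affine one are representable by an affine scheme. -/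
theorem exists_homScheme (X Y : Over S) [IsFinite X.hom] [Flat X.hom] [LocallyOfFinitePresentation X.hom]
    [IsAffineHom Y.hom] :
    ∃ (M : Over S) (ev : X ⊗ M ⟶ Y), IsAffineHom M.hom ∧
      (LocallyOfFiniteType Y.hom → LocallyOfFiniteType M.hom) ∧
      (LocallyOfFinitePresentation Y.hom → LocallyOfFinitePresentation M.hom) ∧
      ∀ (T : Over S) (φ : X ⊗ T ⟶ Y), ∃! v : T ⟶ M, (X ◁ v) ≫ ev = φ := by
  have hloc : ∀ U : S.AffineZariskiSite, ∃ (Mo : Over S) (ξ : X ⊗ Mo ⟶ Y) (h : Mo.left ⟶ (U.1 : Scheme.{u})),
      h ≫ U.1.ι = Mo.hom ∧ RepOn (homFun X Y) U.1 Mo ξ ∧ IsAffineHom h ∧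
      (LocallyOfFiniteType Y.hom → LocallyOfFiniteType h) ∧
      (LocallyOfFinitePresentation Y.hom → LocallyOfFinitePresentation h) := by
    intro U
    let R : Type u := Γ(S, U.1)
    let j : Spec (CommRingCat.of R) ⟶ S := U.2.fromSpec
    obtain ⟨B, _, _, a, hX⟩ := exists_chart j X
    obtain ⟨C, _, _, c, hY⟩ := exists_chart j Y
    obtain ⟨hfin, hproj⟩ := module_props hX
    haveI := hfin
    haveI := hproj
    obtain ⟨W, _, _, ξ, h₁, h₂, hrep⟩ := exists_affine_rep j hX hY
    haveI : IsAffine (U.1 : Scheme.{u}) := U.2
    let h : (tst j W).left ⟶ (U.1 : Scheme.{u}) := Spec.map (CommRingCat.ofHom (algebraMap R W)) ≫ U.2.isoSpec.inv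
    refine ⟨tst j W, ξ, h, ?_, ?_, ?_, fun hY' => ?_, fun hY' => ?_⟩
    · exact Category.assoc _ _ _
    · have : j.opensRange = U.1 := TopologicalSpace.Opens.ext U.2.range_fromSpec
      rwa [this] at hrep
    · haveI : IsAffine (tst j W).left := inferInstanceAs (IsAffine (Spec (CommRingCat.of W)))
      exact isAffineHom_of_isAffine h
    · haveI := hY'
      have hC : (algebraMap R C).FiniteType := (HasRingHomProperty.Spec_iff (P := @LocallyOfFiniteType)).1
        (MorphismProperty.of_isPullback (P := @LocallyOfFiniteType) hY inferInstance)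
      exact (MorphismProperty.cancel_right_of_respectsIso @LocallyOfFiniteType _ _).2
        ((HasRingHomProperty.Spec_iff (P := @LocallyOfFiniteType)).2
          (RingHom.finiteType_algebraMap.2 (h₁ (RingHom.finiteType_algebraMap.1 hC))))
    · haveI := hY'
      have hC : (algebraMap R C).FinitePresentation :=
        (HasRingHomProperty.Spec_iff (P := @LocallyOfFinitePresentation)).1
          (MorphismProperty.of_isPullback (P := @LocallyOfFinitePresentation) hY inferInstance)
      exact (MorphismProperty.cancel_right_of_respectsIso @LocallyOfFinitePresentation _ _).2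
        ((HasRingHomProperty.Spec_iff (P := @LocallyOfFinitePresentation)).2
          (RingHom.finitePresentation_algebraMap.2 (h₂ (RingHom.finitePresentation_algebraMap.1 hC))))
  choose Mo ξ h hh hrep haff hft hfp using hloc
  obtain ⟨M, ⟨e⟩, hP⟩ := exists_rep _ (isZarSheaf_homFun X Y) Mo ξ h hh hrep
  refine ⟨M, e.homEquiv (𝟙 M), hP @IsAffineHom haff, fun hY => hP @LocallyOfFiniteType fun U => hft U hY,
    fun hY => hP @LocallyOfFinitePresentation fun U => hfp U hY, fun T φ => ?_⟩
  obtain ⟨v, hv⟩ := e.homEquiv.surjective φ
  refine ⟨v, (e.homEquiv_eq v).symm.trans hv, fun v' hv' => e.homEquiv.injective ?_⟩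
  exact (e.homEquiv_eq v').trans (hv'.trans hv.symm)

end Groth.Agent.FinHom
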