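import Groth.Agent.FinHomLib.Main
import Groth.Prelude.Def_AutFam
import Groth.Agent.S12442

/-!
The scheme of homomorphisms from a finite locally free group to a group affine over the base.
-/

set_option autoImplicit false
set_option backward.isDefEq.respectTransparency false

noncomputable section

universe u

open CategoryTheory CategoryTheory.Limits MonoidalCategory CartesianMonoidalCategory AlgebraicGeometry
open scoped MonObj

namespace Groth.Agent.FinHom

variable {S : Scheme.{u}}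

theorem exists_equalizer {M N : Over S} (a b : M ⟶ N) [IsSeparated N.hom] :
    ∃ (A : Over S) (i : A ⟶ M), IsClosedImmersion i.left ∧
      (LocallyOfFiniteType N.hom → LocallyOfFinitePresentation i.left) ∧ i ≫ a = i ≫ b ∧
      ∀ (T : Over S) (v : T ⟶ M), v ≫ a = v ≫ b → ∃! w : T ⟶ A, w ≫ i = v := by
  let f := pullback.lift a.left b.left ((Over.w a).trans (Over.w b).symm)
  let i₀ : pullback f (pullback.diagonal N.hom) ⟶ M.left := pullback.fst _ _
  let A : Over S := Over.mk (i₀ ≫ M.hom)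
  let i : A ⟶ M := Over.homMk i₀ rfl
  haveI : IsClosedImmersion i.left := inferInstanceAs (IsClosedImmersion (pullback.fst f (pullback.diagonal N.hom)))
  haveI : Mono i := Over.mono_of_mono_left _
  refine ⟨A, i, inferInstance, fun h => ?_, ?_, fun T v hv => ?_⟩
  · haveI := h
    haveI : LocallyOfFinitePresentation (pullback.diagonal N.hom) := by
      haveI : LocallyOfFinitePresentation (pullback.diagonal N.hom ≫ pullback.fst N.hom N.hom) := by
        rw [pullback.diagonal_fst]; infer_instance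
      exact Groth.Agent.S12442.result (pullback.diagonal N.hom) (pullback.fst N.hom N.hom)
    exact MorphismProperty.pullback_fst (P := @LocallyOfFinitePresentation) _ _ inferInstance
  · refine Over.OverMorphism.ext ?_
    have h1 : i₀ ≫ f ≫ pullback.fst N.hom N.hom = pullback.snd f (pullback.diagonal N.hom) := by
      rw [← Category.assoc, pullback.condition, Category.assoc, pullback.diagonal_fst, Category.comp_id]
    have h2 : i₀ ≫ f ≫ pullback.snd N.hom N.hom = pullback.snd f (pullback.diagonal N.hom) := by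
      rw [← Category.assoc, pullback.condition, Category.assoc, pullback.diagonal_snd, Category.comp_id]
    rw [pullback.lift_fst] at h1
    rw [pullback.lift_snd] at h2
    exact h1.trans h2.symm
  · let w : T ⟶ A := Over.homMk (pullback.lift v.left (v ≫ a).left (pullback.hom_ext
      (by simp [f]) (by simp [f, hv]))) (by
        show pullback.lift _ _ _ ≫ i₀ ≫ M.hom = T.hom
        rw [pullback.lift_fst_assoc, Over.w])
    have hw : w ≫ i = v := Over.OverMorphism.ext (pullback.lift_fst _ _ _)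
    exact ⟨w, hw, fun w' hw' => (cancel_mono i).1 (hw'.trans hw.symm)⟩

variable (H G : Over S) [GrpObj H] [GrpObj G]

/-- The two composites measuring multiplicativity. -/
def mulDef₁ {T : Over S} (φ : H ⊗ T ⟶ G) : (H ⊗ H) ⊗ T ⟶ G :=
  lift ((fst (H ⊗ H) T ≫ fst H H) * (fst (H ⊗ H) T ≫ snd H H)) (snd (H ⊗ H) T) ≫ φ

/-- See `mulDef₁`. -/
def mulDef₂ {T : Over S} (φ : H ⊗ T ⟶ G) : (H ⊗ H) ⊗ T ⟶ G :=
  (lift (fst (H ⊗ H) T ≫ fst H H) (snd (H ⊗ H) T) ≫ φ) * (lift (fst (H ⊗ H) T ≫ snd H H) (snd (H ⊗ H) T) ≫ φ)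

theorem isHomFamily_iff {T : Over S} (φ : H ⊗ T ⟶ G) :
    AutFam.IsHomFamily H G φ ↔ mulDef₁ H G φ = mulDef₂ H G φ := by
  refine ⟨fun h => h _ _ _ _, fun h X g₁ g₂ t => ?_⟩
  have h1 := congrArg (lift (lift g₁ g₂) t ≫ ·) h
  simp only [mulDef₁, mulDef₂, MonObj.comp_mul, comp_lift_assoc, lift_snd, lift_fst_assoc, lift_fst] at h1
  exact h1

theorem mulDef_natural {T T' : Over S} (a : T' ⟶ T) (φ : H ⊗ T ⟶ G) :
    mulDef₁ H G ((H ◁ a) ≫ φ) = ((H ⊗ H) ◁ a) ≫ mulDef₁ H G φ ∧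
      mulDef₂ H G ((H ◁ a) ≫ φ) = ((H ⊗ H) ◁ a) ≫ mulDef₂ H G φ := by
  simp only [mulDef₁, mulDef₂, MonObj.comp_mul, comp_lift_assoc, whiskerLeft_fst_assoc, whiskerLeft_snd,
    lift_whiskerLeft_assoc, and_self]

/-- The scheme of homomorphisms. -/
theorem exists_representsHom [IsFinite H.hom] [Flat H.hom] [LocallyOfFinitePresentation H.hom] [IsAffineHom G.hom] :
    ∃ (A : Over S) (υ : H ⊗ A ⟶ G), AutFam.RepresentsHom H G A υ ∧ IsAffineHom A.hom ∧
      (LocallyOfFiniteType G.hom → LocallyOfFiniteType A.hom) ∧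
      (LocallyOfFinitePresentation G.hom → LocallyOfFinitePresentation A.hom) := by
  haveI : IsFinite (H ⊗ H).hom := inferInstanceAs (IsFinite (pullback.fst H.hom H.hom ≫ H.hom))
  haveI : Flat (H ⊗ H).hom := inferInstanceAs (Flat (pullback.fst H.hom H.hom ≫ H.hom))
  haveI : LocallyOfFinitePresentation (H ⊗ H).hom :=
    inferInstanceAs (LocallyOfFinitePresentation (pullback.fst H.hom H.hom ≫ H.hom))
  obtain ⟨M₁, ev₁, ha₁, hft₁, hfp₁, hu₁⟩ := exists_homScheme H G
  obtain ⟨M₂, ev₂, ha₂, hft₂, hfp₂, hu₂⟩ := exists_homScheme (H ⊗ H) G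
  haveI := ha₁
  haveI := ha₂
  obtain ⟨a, ha, -⟩ := hu₂ M₁ (mulDef₁ H G ev₁)
  obtain ⟨b, hb, -⟩ := hu₂ M₁ (mulDef₂ H G ev₁)
  obtain ⟨A, i, hi, hifp, hab, huni⟩ := exists_equalizer a b
  haveI := hi
  have hiff : ∀ {T : Over S} (v : T ⟶ M₁), AutFam.IsHomFamily H G ((H ◁ v) ≫ ev₁) ↔ v ≫ a = v ≫ b := by
    intro T v
    rw [isHomFamily_iff, (mulDef_natural H G v ev₁).1, (mulDef_natural H G v ev₁).2]
    refine ⟨fun h => (hu₂ T (((H ⊗ H) ◁ v) ≫ mulDef₁ H G ev₁)).unique ?_ ?_, fun h => ?_⟩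
    · show ((H ⊗ H) ◁ (v ≫ a)) ≫ ev₂ = ((H ⊗ H) ◁ v) ≫ mulDef₁ H G ev₁
      rw [whiskerLeft_comp, Category.assoc, ha]
    · show ((H ⊗ H) ◁ (v ≫ b)) ≫ ev₂ = ((H ⊗ H) ◁ v) ≫ mulDef₁ H G ev₁
      rw [whiskerLeft_comp, Category.assoc, hb, h]
    · rw [← ha, ← hb, ← Category.assoc, ← Category.assoc, ← whiskerLeft_comp, ← whiskerLeft_comp, h]
  refine ⟨A, (H ◁ i) ≫ ev₁, ⟨(hiff i).2 hab, fun T φ hφ => ?_⟩, ?_, fun h => ?_, fun h => ?_⟩
  · obtain ⟨v, hv, huniq⟩ := hu₁ T φ
    subst hv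
    obtain ⟨w, hw, hwu⟩ := huni T v ((hiff v).1 hφ)
    refine ⟨w, ?_, fun w' hw' => hwu w' ?_⟩
    · show (H ◁ w) ≫ (H ◁ i) ≫ ev₁ = _
      rw [← Category.assoc, ← whiskerLeft_comp, hw]
    · refine huniq _ ?_
      show (H ◁ (w' ≫ i)) ≫ ev₁ = _
      rw [whiskerLeft_comp, Category.assoc]
      exact hw'
  · rw [← Over.w i]; infer_instance
  · haveI := hft₁ h
    rw [← Over.w i]; infer_instance
  · haveI := hfp₁ h
    haveI : LocallyOfFiniteType G.hom := by haveI := h; infer_instance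
    haveI := hifp (hft₂ inferInstance)
    rw [← Over.w i]; infer_instance

end Groth.Agent.FinHom
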