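import Groth.Agent.FinHomLib.Main
import Groth.Prelude.Def_Flatn

/-!
The functor of morphisms in the spelling of `Flatn.morS`.
-/

set_option autoImplicit false

noncomputable section

universe u

open CategoryTheory CategoryTheory.Limits MonoidalCategory CartesianMonoidalCategory AlgebraicGeometry Opposite

namespace Groth.Agent.FinHom

variable {S Z X : Scheme.{u}}

theorem exists_morS_rep (g : Z ⟶ S) (f : X ⟶ S) [IsFinite g] [Flat g] [LocallyOfFinitePresentation g]
    [IsAffineHom f] : ∃ W : Over S, IsAffineHom W.hom ∧ Nonempty ((Flatn.morS g f).RepresentableBy W) := by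
  haveI : IsFinite (Over.mk g).hom := inferInstanceAs (IsFinite g)
  haveI : Flat (Over.mk g).hom := inferInstanceAs (Flat g)
  haveI : LocallyOfFinitePresentation (Over.mk g).hom := inferInstanceAs (LocallyOfFinitePresentation g)
  haveI : IsAffineHom (Over.mk f).hom := inferInstanceAs (IsAffineHom f)
  obtain ⟨M, ev, h₁, -, -, h₄⟩ := exists_homScheme (Over.mk g) (Over.mk f)
  refine ⟨M, h₁, ⟨?_⟩⟩
  let e : ∀ T : Over S, Over.mk g ⊗ T ≅ (Over.map g).obj ((Over.pullback g).obj T) := fun T =>
    Over.isoMk (pullbackSymmetry g T.hom) (by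
      show (pullbackSymmetry g T.hom).hom ≫ pullback.snd T.hom g ≫ g = pullback.fst g T.hom ≫ g
      rw [pullbackSymmetry_hom_comp_snd_assoc])
  have hnat : ∀ {T T' : Over S} (a : T' ⟶ T), (e T').hom ≫ (Over.map g).map ((Over.pullback g).map a) =
      (Over.mk g ◁ a) ≫ (e T).hom := by
    intro T T' a
    refine Over.OverMorphism.ext (pullback.hom_ext ?_ ?_)
    · simp [e, Over.whiskerLeft_left, pullback.map]
      exact ((congrArg (_ ≫ ·) (pullback.lift_fst _ _ _)).trans
        (pullbackSymmetry_hom_comp_fst_assoc _ _ _)).trans (pullback.lift_snd _ _ _).symm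
    · simp [e, Over.whiskerLeft_left, pullback.map]
      exact ((congrArg (_ ≫ ·) (pullback.lift_snd _ _ _)).trans
        (pullbackSymmetry_hom_comp_snd _ _)).trans (pullback.lift_fst _ _ _).symm
  have hb : ∀ T : Over S, Function.Bijective fun v : T ⟶ M => (e T).inv ≫ (Over.mk g ◁ v) ≫ ev := by
    intro T
    refine ⟨fun v v' h => (h₄ T _).unique rfl ((cancel_epi (e T).inv).1 h).symm, fun φ => ?_⟩
    obtain ⟨v, hv, -⟩ := h₄ T ((e T).hom ≫ φ)
    exact ⟨v, by simp [hv]⟩
  refine
    { homEquiv := fun {T} => Equiv.ofBijective _ (hb T)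
      homEquiv_comp := fun {T T'} a v => ?_ }
  show (e T).inv ≫ (Over.mk g ◁ (a ≫ v)) ≫ ev =
    (Over.map g).map ((Over.pullback g).map a) ≫ (e T').inv ≫ (Over.mk g ◁ v) ≫ ev
  rw [whiskerLeft_comp, Category.assoc, ← cancel_epi (e T).hom, Iso.hom_inv_id_assoc, ← Category.assoc (e T).hom, hnat,
    Category.assoc, Iso.hom_inv_id_assoc]

end Groth.Agent.FinHom
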