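import Mathlib

/-!
Algebra maps into the extension of scalars of a finite projective algebra are represented by an algebra.
-/

set_option autoImplicit false

noncomputable section

universe u

open scoped TensorProduct

namespace Groth.Agent.FinHom

variable {R : Type u} [CommRing R] {B : Type u} [CommRing B] [Algebra R B]

/-- A finite dual basis. -/
theorem exists_dual [Module.Finite R B] [Module.Projective R B] :
    ∃ (n : ℕ) (b : Fin n → B) (f : Fin n → B →ₗ[R] R), ∀ x, ∑ i, f i x • b i = x := by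
  classical
  obtain ⟨n, π, g, -, -, h⟩ := Module.Finite.exists_comp_eq_id_of_projective R B
  refine ⟨n, fun i => π (Pi.single i 1), fun i => (LinearMap.proj i).comp g, fun x => ?_⟩
  conv_rhs => rw [← LinearMap.id_apply (R := R) x, ← h, LinearMap.comp_apply, pi_eq_sum_univ' (g x), map_sum]
  simp only [map_smul, LinearMap.comp_apply, LinearMap.proj_apply]

variable {n : ℕ} (f : Fin n → B →ₗ[R] R)

/-- The coordinates over an algebra. -/
def co (A : Type u) [CommRing A] [Algebra R A] (i : Fin n) : A ⊗[R] B →ₗ[A] A :=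
  (TensorProduct.AlgebraTensorModule.rid R A A).toLinearMap ∘ₗ (f i).baseChange A

theorem co_tmul (A : Type u) [CommRing A] [Algebra R A] (i : Fin n) (a : A) (x : B) :
    co f A i (a ⊗ₜ x) = f i x • a := rfl

theorem map_co {A A' : Type u} [CommRing A] [Algebra R A] [CommRing A'] [Algebra R A'] (L : A →ₐ[R] A')
    (i : Fin n) (z : A ⊗[R] B) : L (co f A i z) = co f A' i (Algebra.TensorProduct.map L (AlgHom.id R B) z) := by
  induction z using TensorProduct.induction_on with
  | zero => simp
  | tmul a x => simp [co_tmul]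
  | add x y hx hy => simp [hx, hy]

theorem sum_co {b : Fin n → B} (hf : ∀ x, ∑ i, f i x • b i = x) {A : Type u} [CommRing A] [Algebra R A]
    (z : A ⊗[R] B) : ∑ i, co f A i z ⊗ₜ[R] b i = z := by
  induction z using TensorProduct.induction_on with
  | zero => simp
  | tmul a x =>
    simp only [co_tmul, TensorProduct.smul_tmul]
    rw [← TensorProduct.tmul_sum, hf]
  | add x y hx hy => simp [TensorProduct.add_tmul, Finset.sum_add_distrib, hx, hy]

variable {ι : Type u}

/-- Evaluation commutes with a change of coefficients. -/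
theorem map_aeval {A A' : Type u} [CommRing A] [Algebra R A] [CommRing A'] [Algebra R A'] (L : A →ₐ[R] A')
    (v : ι → A ⊗[R] B) (p : MvPolynomial ι R) :
    Algebra.TensorProduct.map L (AlgHom.id R B) (MvPolynomial.aeval v p) =
      MvPolynomial.aeval (fun k => Algebra.TensorProduct.map L (AlgHom.id R B) (v k)) p :=
  DFunLike.congr_fun (MvPolynomial.comp_aeval v (Algebra.TensorProduct.map L (AlgHom.id R B))) p

/-- The universal solution of a system of equations in the coefficient extensions of `B`. -/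
theorem exists_universal [Module.Finite R B] [Module.Projective R B] (s : Set (MvPolynomial ι R)) :
    ∃ (W : Type u) (_ : CommRing W) (_ : Algebra R W) (v : ι → W ⊗[R] B),
      (∀ p ∈ s, MvPolynomial.aeval v p = 0) ∧
      (Finite ι → Algebra.FiniteType R W) ∧ (Finite ι → s.Finite → Algebra.FinitePresentation R W) ∧
      ∀ (A : Type u) [CommRing A] [Algebra R A] (v' : ι → A ⊗[R] B),
        (∀ p ∈ s, MvPolynomial.aeval v' p = 0) →
          ∃! L : W →ₐ[R] A, ∀ k, Algebra.TensorProduct.map L (AlgHom.id R B) (v k) = v' k := by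
  classical
  obtain ⟨n, b, f, hf⟩ := exists_dual (R := R) (B := B)
  let W₀ := MvPolynomial (ι × Fin n) R
  let v₀ : ι → W₀ ⊗[R] B := fun k => ∑ i, MvPolynomial.X (k, i) ⊗ₜ[R] b i
  let rels : Set W₀ := Set.range (fun q : ι × Fin n => co f W₀ q.2 (v₀ q.1) - MvPolynomial.X q) ∪
    (fun q : MvPolynomial ι R × Fin n => co f W₀ q.2 (MvPolynomial.aeval v₀ q.1)) '' (s ×ˢ Set.univ)
  let J := Ideal.span rels
  let π := Ideal.Quotient.mkₐ R J
  let v : ι → (W₀ ⧸ J) ⊗[R] B := fun k => Algebra.TensorProduct.map π (AlgHom.id R B) (v₀ k)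
  refine ⟨W₀ ⧸ J, inferInstance, inferInstance, v, fun p hp => ?_, fun hι => ?_, fun hι hs => ?_, ?_⟩
  · rw [← map_aeval, ← sum_co f hf (Algebra.TensorProduct.map π (AlgHom.id R B) (MvPolynomial.aeval v₀ p))]
    refine Finset.sum_eq_zero fun i _ => ?_
    rw [← map_co, show π (co f W₀ i (MvPolynomial.aeval v₀ p)) = 0 from
      Ideal.Quotient.eq_zero_iff_mem.2 (Ideal.subset_span (Or.inr ⟨(p, i), ⟨hp, trivial⟩, rfl⟩)),
      TensorProduct.zero_tmul]
  · exact Algebra.FiniteType.of_surjective π (Ideal.Quotient.mkₐ_surjective R J)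
  · refine Algebra.FinitePresentation.quotient ?_
    exact Submodule.fg_span ((Set.finite_range _).union (Set.Finite.image _ (hs.prod Set.finite_univ)))
  · intro A _ _ v' hv'
    let L₀ : W₀ →ₐ[R] A := MvPolynomial.aeval fun q => co f A q.2 (v' q.1)
    have hL₀ : ∀ k, Algebra.TensorProduct.map L₀ (AlgHom.id R B) (v₀ k) = v' k := fun k => by
      rw [map_sum]
      refine Eq.trans ?_ (sum_co f hf (v' k))
      exact Finset.sum_congr rfl fun i _ => by simp [L₀, W₀]
    have hJ : J ≤ RingHom.ker L₀.toRingHom := by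
      refine Ideal.span_le.2 ?_
      rintro x (⟨⟨k, i⟩, rfl⟩ | ⟨⟨p, i⟩, ⟨hp, -⟩, rfl⟩)
      · show L₀ (co f W₀ i (v₀ k) - MvPolynomial.X (k, i)) = 0
        rw [map_sub, map_co, hL₀]
        simp [L₀, W₀]
      · show L₀ (co f W₀ i (MvPolynomial.aeval v₀ p)) = 0
        rw [map_co, map_aeval]
        simp only [hL₀, hv' p hp, map_zero]
    let L : (W₀ ⧸ J) →ₐ[R] A := Ideal.Quotient.liftₐ J L₀ fun a ha => hJ ha
    have hcomp : ∀ k, Algebra.TensorProduct.map L (AlgHom.id R B) (v k) =
        Algebra.TensorProduct.map L₀ (AlgHom.id R B) (v₀ k) := fun k => by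
      simp [v, v₀, map_sum, L, π, W₀]
    refine ⟨L, fun k => (hcomp k).trans (hL₀ k), fun L' hL' => ?_⟩
    refine Ideal.Quotient.algHom_ext R (MvPolynomial.algHom_ext fun q => ?_)
    show L' (π (MvPolynomial.X q)) = L (π (MvPolynomial.X q))
    have hX : π (MvPolynomial.X q) = co f (W₀ ⧸ J) q.2 (v q.1) := by
      rw [← map_co]
      refine (Ideal.Quotient.eq.2 ?_).symm
      exact Ideal.subset_span (Or.inl ⟨q, rfl⟩)
    rw [hX, map_co, map_co, hL', hcomp, hL₀]

/-- Algebra maps into the coefficient extensions of `B` are represented. -/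
theorem exists_algHom_repr [Module.Finite R B] [Module.Projective R B] (C : Type u) [CommRing C] [Algebra R C] :
    ∃ (W : Type u) (_ : CommRing W) (_ : Algebra R W) (ω : C →ₐ[R] W ⊗[R] B),
      (Algebra.FiniteType R C → Algebra.FiniteType R W) ∧
      (Algebra.FinitePresentation R C → Algebra.FinitePresentation R W) ∧
      ∀ (A : Type u) [CommRing A] [Algebra R A] (χ : C →ₐ[R] A ⊗[R] B),
        ∃! L : W →ₐ[R] A, (Algebra.TensorProduct.map L (AlgHom.id R B)).comp ω = χ := by
  classical
  suffices h : ∀ (ι : Type u) (π : MvPolynomial ι R →ₐ[R] C) (s : Set (MvPolynomial ι R)),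
      Function.Surjective π → Ideal.span s = RingHom.ker π.toRingHom →
      ∃ (W : Type u) (_ : CommRing W) (_ : Algebra R W) (ω : C →ₐ[R] W ⊗[R] B),
      (Finite ι → Algebra.FiniteType R W) ∧ (Finite ι → s.Finite → Algebra.FinitePresentation R W) ∧
      ∀ (A : Type u) [CommRing A] [Algebra R A] (χ : C →ₐ[R] A ⊗[R] B),
        ∃! L : W →ₐ[R] A, (Algebra.TensorProduct.map L (AlgHom.id R B)).comp ω = χ by
    by_cases hfp : Algebra.FinitePresentation R C
    · obtain ⟨m, π, hπ, s, hs⟩ := hfp
      let e := MvPolynomial.renameEquiv R (Equiv.ulift.{u} : ULift.{u} (Fin m) ≃ Fin m)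
      obtain ⟨W, _, _, ω, h₁, h₂, h₃⟩ := h (ULift.{u} (Fin m)) (π.comp e.toAlgHom) (e.symm '' (s : Set _))
        (hπ.comp e.surjective) (by
          have h1 : Ideal.map e.symm.toRingHom (Ideal.span (s : Set _)) = Ideal.span (e.symm '' (s : Set _)) :=
            Ideal.map_span _ _
          rw [← h1]
          ext x
          rw [show (Ideal.span (s : Set _) : Ideal _) = RingHom.ker π from hs]
          refine (SetLike.ext_iff.1 (Ideal.map_comap_of_equiv (I := RingHom.ker π.toRingHom) e.symm.toRingEquiv) x).trans ?_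
          exact Iff.rfl)
      exact ⟨W, _, _, ω, fun _ => h₁ inferInstance, fun _ => h₂ inferInstance (s.finite_toSet.image _), h₃⟩
    · by_cases hft : Algebra.FiniteType R C
      · obtain ⟨ι, hι, π, hπ⟩ := Algebra.FiniteType.iff_quotient_mvPolynomial'.1 hft
        obtain ⟨W, _, _, ω, h₁, h₂, h₃⟩ := h ι π (RingHom.ker π.toRingHom : Set _) hπ (Ideal.span_eq _)
        exact ⟨W, _, _, ω, fun _ => h₁ inferInstance, fun h => absurd h hfp, h₃⟩
      · obtain ⟨W, _, _, ω, h₁, h₂, h₃⟩ := h C (MvPolynomial.aeval id)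
          (RingHom.ker (MvPolynomial.aeval (R := R) (id : C → C)).toRingHom : Set _)
          (fun c => ⟨MvPolynomial.X c, by simp⟩) (Ideal.span_eq _)
        exact ⟨W, _, _, ω, fun h => absurd h hft, fun h => absurd h hfp, h₃⟩
  intro ι π s hπ hs
  obtain ⟨W, _, _, v, hv, h₁, h₂, h₃⟩ := exists_universal (B := B) s
  have hker : RingHom.ker π.toRingHom ≤ RingHom.ker (MvPolynomial.aeval v).toRingHom := by
    rw [← hs]; exact Ideal.span_le.2 fun p hp => hv p hp
  let ω : C →ₐ[R] W ⊗[R] B :=
    (AlgHom.liftOfSurjective π hπ (MvPolynomial.aeval v) hker)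
  have hω : ω.comp π = MvPolynomial.aeval v := AlgHom.liftOfSurjective_comp π hπ _ hker
  refine ⟨W, inferInstance, inferInstance, ω, h₁, h₂, fun A _ _ χ => ?_⟩
  obtain ⟨L, hL, huniq⟩ := h₃ A (fun k => χ (π (MvPolynomial.X k))) (fun p hp => by
    have h4 : MvPolynomial.aeval (fun k => χ (π (MvPolynomial.X k))) = χ.comp π :=
      MvPolynomial.algHom_ext fun k => by simp
    rw [h4, AlgHom.comp_apply, show π p = 0 from hs.le (Ideal.subset_span hp), map_zero])
  have hkey : ∀ (L' : W →ₐ[R] A), ((Algebra.TensorProduct.map L' (AlgHom.id R B)).comp ω = χ) ↔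
      ∀ k, Algebra.TensorProduct.map L' (AlgHom.id R B) (v k) = χ (π (MvPolynomial.X k)) := by
    intro L'
    have hk : ∀ k, ω (π (MvPolynomial.X k)) = v k := fun k => by
      rw [← AlgHom.comp_apply, hω, MvPolynomial.aeval_X]
    refine ⟨fun h k => by rw [← h, AlgHom.comp_apply, hk], fun h => ?_⟩
    refine (AlgHom.cancel_right hπ).1 (MvPolynomial.algHom_ext fun k => ?_)
    simp only [AlgHom.comp_apply, hk, h]
  exact ⟨L, (hkey L).2 hL, fun L' hL' => huniq L' ((hkey L').1 hL')⟩

end Groth.Agent.FinHom
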